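import Groth.Agent.KFlatLib.Scheme.PCQCoh
import Groth.Agent.KFlatLib.Scheme.TildeD
import Groth.Prelude.Def_DualSch
import Groth.Agent.KFlatLib.Scheme.TildePull
import Groth.Agent.KFlatLib.Perfect.Betti
import Groth.Agent.KFlatLib.Ring.DualizingFlat
import Groth.Agent.H9Misc.DRingLBase
import Groth.Agent.S11177
import Groth.Agent.S1787

/-!
# Being a dualizing complex on a scheme is local
-/

set_option linter.style.haveILetI false
set_option autoImplicit false
set_option backward.isDefEq.respectTransparency false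
universe u

open CategoryTheory CategoryTheory.Limits AlgebraicGeometry Groth.Agent.KFlatLib TopologicalSpace

attribute [local instance] HasDerivedCategory.standard

namespace Groth.Agent.DualCover7

variable {X : Scheme.{u}}

/-- Quasi-coherence is local for open immersions. -/
lemma isQCoh_of_local {M : X.Modules}
    (h : ∀ x : X, ∃ (U : Scheme.{u}) (j : U ⟶ X) (_ : IsOpenImmersion j),
      x ∈ Set.range j.base ∧ Coh.IsQCoh (M.restrict j)) : Coh.IsQCoh M := by
  choose U j hj hx hq using h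
  refine QCoh.isQCoh_of_isOpenCover (fun x => @Scheme.Hom.opensRange _ _ (j x) (hj x))
    (IsOpenCover.mk (top_le_iff.1 fun x _ => Opens.mem_iSup.2 ⟨x, hx x⟩)) fun x => ?_
  haveI := hj x
  exact (QCoh.isQCoh_iff_iso (QCoh.restrictRestrict M (rangeHom (j x)) (j x) ≪≫
    (Scheme.Modules.restrictFunctorCongr (rangeHom_fac (j x))).app M)).1
      (QCoh.isQCoh_restrict (rangeHom (j x)) (hq x))

/-- Quasi-coherence of a cohomology sheaf is local. -/
lemma isQCoh_HD_of_local (R : DCoh.D X) (i : ℤ)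
    (h : ∀ x : X, ∃ (U : Scheme.{u}) (j : U ⟶ X) (_ : IsOpenImmersion j),
      x ∈ Set.range j.base ∧ Coh.IsQCoh (DCoh.HD ((rho j).obj R) i)) : Coh.IsQCoh (DCoh.HD R i) :=
  isQCoh_of_local fun x => by
    obtain ⟨U, j, hj, hx, hq⟩ := h x
    exact ⟨U, j, hj, hx, isQCoh_of_iso (restrictHDIso j R i) hq⟩

/-- Restriction of a tilde object along an open immersion of affine schemes. -/
theorem nonempty_tilde_rho [∀ (R : CommRingCat.{u}), PreservesFiniteLimits (tilde.functor R)]
    {A B : Type u} [CommRing A] [CommRing B] (φ : A →+* B)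
    [IsOpenImmersion (Spec.map (CommRingCat.ofHom φ))] [DRing.HasLBaseChange φ] (ω : Dual.D A) :
    Nonempty ((DCoh.tildeD (CommRingCat.of B)).obj ((DRing.LBaseChange φ).obj ω) ≅
      (rho (Spec.map (CommRingCat.ofHom φ))).obj ((DCoh.tildeD (CommRingCat.of A)).obj ω)) := by
  let f := Spec.map (CommRingCat.ofHom φ)
  haveI : DCoh.HasLpull f := KFlatLib.hasLpull f
  obtain ⟨e⟩ := KFlatLib.nonempty_tildeD_lpull_iso φ
  exact ⟨e.app ω ≪≫ (rhoLpullIso f _).symm⟩

lemma isQCohD_rho {U : Scheme.{u}} (j : U ⟶ X) [IsOpenImmersion j] {K : DCoh.D X}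
    (h : DCoh.IsQCohD K) : DCoh.IsQCohD ((rho j).obj K) := fun i =>
  KFlatLib.isQCoh_of_iso (restrictHDIso j K i).symm (QCoh.isQCoh_restrict j (h i))

/-- The tilde functor reflects isomorphisms. -/
theorem nonempty_iso_of_tilde (R : CommRingCat.{u}) [PreservesFiniteLimits (tilde.functor R)]
    {M N : DerivedCategory (ModuleCat.{u} R)}
    (e : (DCoh.tildeD R).obj M ≅ (DCoh.tildeD R).obj N) : Nonempty (M ≅ N) := by
  obtain ⟨a, ha⟩ := (tildeD_map_bijective M N).2 e.hom
  obtain ⟨b, hb⟩ := (tildeD_map_bijective N M).2 e.inv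
  exact ⟨⟨a, b, (tildeD_map_bijective M M).1 (by simp [ha, hb]),
    (tildeD_map_bijective N N).1 (by simp [ha, hb])⟩⟩

/-- Being dualizing is local. -/
theorem isDualizingSch_of_cover [IsLocallyNoetherian X]
    [∀ (U : Scheme.{u}) (j : U ⟶ X) [IsOpenImmersion j], PreservesFiniteLimits (Scheme.Modules.restrictFunctor j)]
    [∀ (R : CommRingCat.{u}), PreservesFiniteLimits (tilde.functor R)]
    (K : DCoh.D X) (ι : Type u) (A : ι → Type u) [∀ i, CommRing (A i)]
    (j : ∀ i, Spec (CommRingCat.of (A i)) ⟶ X) [∀ i, IsOpenImmersion (j i)]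
    (hcov : ∀ x : X, ∃ i, x ∈ Set.range (j i))
    (hK : ∀ i, ∃ ω : Dual.D (A i), Dual.IsDualizing (A i) ω ∧
      Nonempty ((rho (j i)).obj K ≅ (DCoh.tildeD (CommRingCat.of (A i))).obj ω)) :
    Dual2.IsDualizingSch X K := by
  have hq : DCoh.IsQCohD K := fun n => isQCoh_HD_of_local K n fun x => by
    obtain ⟨i, hi⟩ := hcov x
    obtain ⟨ω, -, ⟨e⟩⟩ := hK i
    exact ⟨_, j i, inferInstance, hi, (isQCohD_of_iso e.symm (isQCohD_tildeD (CommRingCat.of (A i)) ω)) n⟩
  intro B _ k _
  obtain ⟨ω, ⟨e⟩⟩ := exists_tildeD_iso (isQCohD_rho k hq)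
  refine ⟨ω, ?_, ⟨e.symm⟩⟩
  haveI : IsLocallyNoetherian (Spec (CommRingCat.of B)) := isLocallyNoetherian_of_isOpenImmersion k
  haveI : IsNoetherianRing B := (isLocallyNoetherian_Spec (R := CommRingCat.of B)).1 inferInstance
  have key : ∀ p : PrimeSpectrum B, ∃ f : B, f ∉ p.asIdeal ∧
      ∃ _ : DRing.HasLBaseChange (algebraMap B (Localization.Away f)),
        Dual.IsDualizing (Localization.Away f)
          ((DRing.LBaseChange (algebraMap B (Localization.Away f))).obj ω) := by
    intro p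
    obtain ⟨i, hi⟩ := hcov (k.base p)
    obtain ⟨ωi, hωi, ⟨ei⟩⟩ := hK i
    let W : TopologicalSpace.Opens (PrimeSpectrum B) := k ⁻¹ᵁ (j i).opensRange
    obtain ⟨_, ⟨f, rfl⟩, hpf, hfW⟩ := PrimeSpectrum.isTopologicalBasis_basic_opens.exists_subset_of_mem_open
      (show p ∈ (W : Set (PrimeSpectrum B)) from hi) W.2
    refine ⟨f, hpf, ?_⟩
    let ψ := algebraMap B (Localization.Away f)
    let g := Spec.map (CommRingCat.ofHom ψ)
    haveI hg : IsOpenImmersion g := IsOpenImmersion.of_isLocalization f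
    have hr : Set.range (g ≫ k).base ⊆ Set.range (j i).base := by
      rintro _ ⟨q, rfl⟩
      exact hfW (((PrimeSpectrum.localization_away_comap_range (Localization.Away f) f).le) ⟨q, rfl⟩)
    let l := IsOpenImmersion.lift (j i) (g ≫ k) hr
    have hl : l ≫ j i = g ≫ k := IsOpenImmersion.lift_fac _ _ _
    haveI : IsOpenImmersion (l ≫ j i) := by rw [hl]; infer_instance
    haveI : IsOpenImmersion l := IsOpenImmersion.of_comp l (j i)
    let φ : A i →+* Localization.Away f := (Spec.preimage l).hom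
    have hφ : Spec.map (CommRingCat.ofHom φ) = l := Spec.map_preimage l
    haveI : IsOpenImmersion (Spec.map (CommRingCat.ofHom φ)) := by rw [hφ]; infer_instance
    haveI : DRing.HasLBaseChange ψ := H9Misc.DRingLBase.hasLBaseChange ψ
    haveI : DRing.HasLBaseChange φ := H9Misc.DRingLBase.hasLBaseChange φ
    refine ⟨inferInstance, ?_⟩
    have hd : Dual.IsDualizing (Localization.Away f) ((DRing.LBaseChange φ).obj ωi) := by
      letI := φ.toAlgebra
      haveI : IsNoetherianRing (A i) := hωi.isNoetherianRing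
      haveI : Algebra.Smooth (A i) (Localization.Away f) :=
        (HasRingHomProperty.Spec_iff (P := @Smooth) (φ := CommRingCat.ofHom φ)).1 inferInstance
      haveI : DRing.HasLBaseChange (algebraMap (A i) (Localization.Away f)) := ‹DRing.HasLBaseChange φ›
      exact Groth.Agent.S11177.result (A i) (Localization.Away f) ωi hωi
    obtain ⟨t₁⟩ := nonempty_tilde_rho ψ ω
    obtain ⟨t₂⟩ := nonempty_tilde_rho φ ωi
    obtain ⟨c⟩ := nonempty_iso_of_tilde (CommRingCat.of (Localization.Away f))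
      (t₂ ≪≫ (rho _).mapIso ei.symm ≪≫
        rhoComp (Spec.map (CommRingCat.ofHom φ)) (j i) (g ≫ k) (by rw [hφ, hl]) K ≪≫
        (rhoComp g k (g ≫ k) rfl K).symm ≪≫ (rho g).mapIso e.symm ≪≫ t₁.symm)
    exact isDualizing_of_iso c hd
  choose f hf h₁ h₂ using key
  have hsp : Ideal.span (Set.range f) = ⊤ := by
    by_contra hne
    obtain ⟨m, hm, hle⟩ := Ideal.exists_le_maximal _ hne
    exact hf ⟨m, hm.isPrime⟩ (hle (Ideal.subset_span ⟨_, rfl⟩))
  obtain ⟨s, hs⟩ := ((Ideal.span_eq_top_iff_finite _).1 hsp)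
  obtain ⟨n, F, hF⟩ := s.finite_toSet.fin_embedding
  refine Groth.Agent.S1787.result B n F (by rw [hF]; exact hs.2) ω fun m => ?_
  obtain ⟨q, hq'⟩ := hs.1 (show F m ∈ (s : Set B) by rw [← hF]; exact ⟨m, rfl⟩)
  rw [← hq']
  exact ⟨h₁ q, h₂ q⟩

end Groth.Agent.DualCover7
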